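import Groth.Agent.FamCyc.K812.ChevT
import Groth.Agent.EGA43.K127.RtdChev
import Groth.Agent.Fdesc.BaseField
import Groth.Agent.EGA43.K125.LocalDims
import Groth.Agent.UnramA.NormalUnibranch
import Groth.Agent.Sga2lef.H98.Rtd
import Groth.Agent.Flat2D.RelDimClosure

/-!
# Families of cycles over a normal base: the union over a connected closed subset of the base

`P = X ×_k Y`, with projections `p`, `q`.
-/

set_option autoImplicit false
universe u

open CategoryTheory Limits AlgebraicGeometry TopologicalSpace Topology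

namespace K110.Cyc

open Groth.Agent.CycB.RelDim Groth.Agent

section dims

variable {P Y : Scheme.{u}} (q : P ⟶ Y) [LocallyOfFiniteType q]

/-- The transcendence degrees at the points of `Z ∩ q ⁻¹ {y}` are at most its dimension. -/
theorem rtd_le_of_dim (Z : Set P) (ζ : P) (hζ : closure {ζ} = Z) (y : Y) (d : ℕ)
    (hd : topologicalKrullDim ↥(Z ∩ q ⁻¹' {y}) = d) (z : P) (hz : z ∈ Z) (hy : q z = y) :
    rtd q z ≤ d := by
  obtain ⟨W, j, hj, hW, hjζ, hjr⟩ := CycA.ClosurePt.exists_closure_subscheme ζ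
  obtain ⟨w, rfl⟩ : z ∈ Set.range j := by rw [hjr, hζ]; exact hz
  obtain ⟨n, hn, hn'⟩ := K125.LocalDims.exists_rtd_le_dim_opens (j ≫ q) ⊤ y w trivial (by simpa using hy)
  rw [K812.CondT.rtd_closed] at hn
  have hle : topologicalKrullDim ↥(((⊤ : W.Opens) : Set W) ∩ (j ≫ q) ⁻¹' {y}) ≤
      topologicalKrullDim ↥(Z ∩ q ⁻¹' {y}) := by
    let φ : ↥(((⊤ : W.Opens) : Set W) ∩ (j ≫ q) ⁻¹' {y}) → ↥(Z ∩ q ⁻¹' {y}) := fun t =>
      ⟨j t.1, by rw [← hζ, ← hjr]; exact ⟨t.1, rfl⟩, by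
        have := t.2.2
        simpa using this⟩
    refine IsInducing.topologicalKrullDim_le (f := φ) ?_
    refine IsInducing.of_comp (g := Subtype.val) ?_ continuous_subtype_val ?_
    · exact Continuous.subtype_mk (j.continuous.comp continuous_subtype_val) _
    · exact j.isEmbedding.isInducing.comp IsInducing.subtypeVal
  rw [hn]
  rw [hd] at hle
  have : (n : WithBot ℕ∞) ≤ d := hn'.trans hle
  exact_mod_cast this

/-- The generic point of `Z` has transcendence degree `d` if the generic fibre has dimension `d`. -/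
theorem rtd_generic (Z : Set P) (ζ : P) (hζ : closure {ζ} = Z) (d : ℕ)
    (hd : topologicalKrullDim ↥(Z ∩ q ⁻¹' {q ζ}) = d) : rtd q ζ = d := by
  obtain ⟨n, hn, hn'⟩ := Flat2D.RelDimClosure.exists_dim_fib q ζ
  have h : (n : WithBot ℕ∞) = d := by
    rw [← hn', ← hd, ← hζ]
  rw [hn]
  exact_mod_cast h

end dims

/-- Points of a closed subset of dimension `d` of a scheme over a field have transcendence degree at
most `d`. -/
theorem rtd_le_of_mem {k : Type u} [Field k] {X : Scheme.{u}} (s : X ⟶ Spec (.of k))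
    [LocallyOfFiniteType s] (F : Set X) (hF : IsClosed F) (d : ℕ) (hd : topologicalKrullDim ↥F = d)
    (x : X) (hx : x ∈ F) : rtd s x ≤ d := by
  obtain ⟨n, hn, hn'⟩ := Flat2D.RelDimClosure.exists_dim_fib s x
  have hsub : ∀ t : X, t ∈ closure {x} ∩ s ⁻¹' {s x} → t ∈ F := fun t ht =>
    hF.closure_subset_iff.mpr (Set.singleton_subset_iff.mpr hx) ht.1
  have hle : topologicalKrullDim ↥(Flat2D.RelDimClosure.Fib s x (s x)) ≤ topologicalKrullDim ↥F := by
    let φ : ↥(Flat2D.RelDimClosure.Fib s x (s x)) → ↥F := fun t => ⟨t.1, hsub _ t.2⟩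
    refine IsInducing.topologicalKrullDim_le (f := φ) ?_
    refine IsInducing.of_comp (g := Subtype.val) ?_ continuous_subtype_val ?_
    · exact Continuous.subtype_mk continuous_subtype_val _
    · exact IsInducing.subtypeVal
  rw [hn', hd] at hle
  rw [hn]
  exact_mod_cast hle

/-- If the fibres of `Z = closure {ζ}` over a normal base are all of dimension `d`, then `Z → Y` is
open. -/
theorem isOpenMap_comp {P Y : Scheme.{u}} (q : P ⟶ Y) [LocallyOfFiniteType q] [IsIntegral Y]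
    (hN : ∀ y : Y, IsDomain (Y.presheaf.stalk y) ∧ IsIntegrallyClosed (Y.presheaf.stalk y))
    (ζ : P) (d : ℕ) (hζq : q ζ = genericPoint Y) (hζ : rtd q ζ = d)
    (hle : ∀ z : P, ζ ⤳ z → rtd q z ≤ d) (U : P.Opens) :
    IsOpen (q '' (closure {ζ} ∩ (U : Set P))) := by
  obtain ⟨W, j, hj, hW, hjζ, hjr⟩ := CycA.ClosurePt.exists_closure_subscheme ζ
  have hunib : ∀ y : Y, CAlg2.IsGeomUnibranch (Y.presheaf.stalk y) := fun y => by
    have := (hN y).1
    have := (hN y).2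
    exact UnramA.NormalUnibranch.isGeomUnibranch_of_isIntegrallyClosed _
  have hfin : (irreducibleComponents (Y : Type u)).Finite := by
    rw [irreducibleComponents_eq_singleton]
    exact Set.finite_singleton _
  have hu : UniversallyOpen (j ≫ q) := by
    refine K812.ChevT.universallyOpen hunib hfin (j ≫ q) fun w => ?_
    refine ⟨genericPoint W, fun z hz => (hz.antisymm (genericPoint_specializes z)).eq,
      genericPoint_specializes w, fun y hy => ?_, fun z _ _ _ => ?_⟩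
    · have h1 : (j ≫ q) (genericPoint W) = genericPoint Y := by
        rw [Scheme.Hom.comp_apply, hjζ, hζq]
      rw [h1] at hy ⊢
      exact (hy.antisymm (genericPoint_specializes y)).eq
    · rw [K812.CondT.rtd_closed, K812.CondT.rtd_closed, hjζ, hζ]
      refine hle _ ?_
      rw [specializes_iff_mem_closure, ← hjr]
      exact ⟨z, rfl⟩
  have h1 : q '' (closure {ζ} ∩ (U : Set P)) = (j ≫ q) '' ((j ⁻¹ᵁ U : W.Opens) : Set W) := by
    ext y
    constructor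
    · rintro ⟨z, ⟨hz, hzU⟩, rfl⟩
      rw [← hjr] at hz
      obtain ⟨w, rfl⟩ := hz
      exact ⟨w, hzU, by simp⟩
    · rintro ⟨w, hw, rfl⟩
      exact ⟨j w, ⟨by rw [← hjr]; exact ⟨w, rfl⟩, hw⟩, by simp⟩
  rw [h1]
  exact (j ≫ q).isOpenMap _ (j ⁻¹ᵁ U).isOpen

section fibre

variable {k : Type u} [Field k] [IsAlgClosed k] {X Y P : Scheme.{u}}
  {sX : X ⟶ Spec (.of k)} {sY : Y ⟶ Spec (.of k)} {p : P ⟶ X} {q : P ⟶ Y}

/-- The fibres of `closure {ξ} ×_k Y → Y` are irreducible. -/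
theorem exists_common_generization (H : IsPullback p q sX sY) (ξ : X) (z z' : P)
    (hz : ξ ⤳ p z) (hz' : ξ ⤳ p z') (hq : q z = q z') :
    ∃ θ : P, θ ⤳ z ∧ θ ⤳ z' ∧ ξ ⤳ p θ ∧ q θ = q z := by
  obtain ⟨C, j, hj, hC, hjξ, hjr⟩ := CycA.ClosurePt.exists_closure_subscheme ξ
  have hgi : GeometricallyIrreducible (j ≫ sX) :=
    Fdesc.BaseField.geometricallyIrreducible_of_isAlgClosed _
  -- the closed subscheme `C ×_k Y` of `P`
  let Q := pullback j p
  let a : Q ⟶ C := pullback.fst j p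
  let i : Q ⟶ P := pullback.snd j p
  have HQ : IsPullback a (i ≫ q) (j ≫ sX) sY :=
    ((IsPullback.of_hasPullback j p).flip.paste_horiz H.flip).flip
  have hg : GeometricallyIrreducible (i ≫ q) := MorphismProperty.of_isPullback HQ hgi
  have hmem : ∀ w : P, ξ ⤳ p w → ∃ t : Q, i t = w := by
    intro w hw
    have h1 : p w ∈ Set.range j := by rw [hjr]; exact specializes_iff_mem_closure.mp hw
    have h2 : w ∈ Set.range i := by
      change w ∈ Set.range (pullback.snd j p)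
      rw [Scheme.Pullback.range_snd]
      exact h1
    exact h2
  obtain ⟨t, rfl⟩ := hmem z hz
  obtain ⟨t', rfl⟩ := hmem z' hz'
  have ht' : (i ≫ q) t' = (i ≫ q) t := by simpa using hq.symm
  obtain ⟨τ, hτ⟩ : ∃ τ : ↥((i ≫ q).fiber ((i ≫ q) t)), (i ≫ q).fiberι _ τ = t := by
    have : t ∈ Set.range ((i ≫ q).fiberι ((i ≫ q) t)) := by
      rw [Scheme.Hom.range_fiberι]; rfl
    exact this
  obtain ⟨τ', hτ'⟩ : ∃ τ : ↥((i ≫ q).fiber ((i ≫ q) t)), (i ≫ q).fiberι _ τ = t' := by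
    have : t' ∈ Set.range ((i ≫ q).fiberι ((i ≫ q) t)) := by
      rw [Scheme.Hom.range_fiberι]; exact ht'
    exact this
  let g : ↥((i ≫ q).fiber ((i ≫ q) t)) := genericPoint _
  let θ : Q := (i ≫ q).fiberι _ g
  have hθq : (i ≫ q) θ = (i ≫ q) t := by
    have : θ ∈ Set.range ((i ≫ q).fiberι ((i ≫ q) t)) := ⟨g, rfl⟩
    rw [Scheme.Hom.range_fiberι] at this
    exact this
  refine ⟨i θ, ?_, ?_, ?_, ?_⟩
  · rw [← hτ]
    exact ((genericPoint_specializes τ).map ((i ≫ q).fiberι _).continuous).map i.continuous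
  · rw [← hτ']
    exact ((genericPoint_specializes τ').map ((i ≫ q).fiberι _).continuous).map i.continuous
  · have h1 : p (i θ) = j (a θ) := by
      rw [← Scheme.Hom.comp_apply, ← Scheme.Hom.comp_apply]
      exact congrArg (fun f : Q ⟶ X => f θ) (pullback.condition (f := j) (g := p)).symm
    rw [h1, specializes_iff_mem_closure, ← hjr]
    exact ⟨a θ, rfl⟩
  · simpa using hθq

/-- If `closure {ξ} ⊆ F` with `dim F ≤ d`, a point `z` of `closure {ξ} ×_k Y` with `rtd q z ≥ d` is the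
generic point of its fibre. -/
theorem specializes_of_le_rtd [LocallyOfFiniteType sX] (H : IsPullback p q sX sY) (ξ : X) (d : ℕ)
    (hξ : ∀ x : X, ξ ⤳ x → rtd sX x ≤ d) (z z' : P)
    (hz : ξ ⤳ p z) (hz' : ξ ⤳ p z') (hq : q z = q z') (hd : (d : Cardinal.{u}) ≤ rtd q z) : z ⤳ z' := by
  have hft : LocallyOfFiniteType q := MorphismProperty.of_isPullback H inferInstance
  obtain ⟨θ, h1, h2, h3, h4⟩ := exists_common_generization H ξ z z' hz hz' hq
  have h5 : rtd q θ ≤ d := (Sga2lef.H98.Rtd.rtd_snd_le H θ).trans (hξ _ h3)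
  by_cases h : θ = z
  · rwa [← h]
  · exact absurd (hd.trans_lt ((rtd_lt_of_specializes q h1 h h4).trans_le h5)) (lt_irrefl _)

omit [IsAlgClosed k] in
/-- The image of an open subset of `closure {ξ} ×_k Y` in `Y` is open. -/
theorem isOpen_image (H : IsPullback p q sX sY) (ξ : X) (U : P.Opens) :
    IsOpen (q '' (p ⁻¹' (closure {ξ}) ∩ (U : Set P))) := by
  obtain ⟨C, j, hj, hC, hjξ, hjr⟩ := CycA.ClosurePt.exists_closure_subscheme ξ
  let Q := pullback j p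
  let a : Q ⟶ C := pullback.fst j p
  let i : Q ⟶ P := pullback.snd j p
  have HQ : IsPullback a (i ≫ q) (j ≫ sX) sY :=
    ((IsPullback.of_hasPullback j p).flip.paste_horiz H.flip).flip
  have hu : UniversallyOpen (i ≫ q) := MorphismProperty.of_isPullback HQ inferInstance
  have h1 : q '' (p ⁻¹' (closure {ξ}) ∩ (U : Set P)) = (i ≫ q) '' ((i ⁻¹ᵁ U : Q.Opens) : Set Q) := by
    have hr : Set.range i = p ⁻¹' (closure {ξ}) := by
      change Set.range (pullback.snd j p) = _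
      rw [Scheme.Pullback.range_snd, hjr]
    ext y
    constructor
    · rintro ⟨z, ⟨hz, hzU⟩, rfl⟩
      rw [← hr] at hz
      obtain ⟨w, rfl⟩ := hz
      exact ⟨w, hzU, by simp⟩
    · rintro ⟨w, hw, rfl⟩
      exact ⟨i w, ⟨by rw [← hr]; exact ⟨w, rfl⟩, hw⟩, by simp⟩
  rw [h1]
  exact (i ≫ q).isOpenMap _ (i ⁻¹ᵁ U).isOpen

end fibre

section maximal

variable {X : Type*} [TopologicalSpace X]

/-- Maximal points of a closed subset. -/
def IsMaxIn (F : Set X) (ξ : X) : Prop := ξ ∈ F ∧ ∀ x ∈ F, x ⤳ ξ → x = ξ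

theorem exists_isMaxIn [QuasiSober X] [T0Space X] {F : Set X} (hF : IsClosed F) {x : X} (hx : x ∈ F) :
    ∃ ξ : X, IsMaxIn F ξ ∧ ξ ⤳ x := by
  have : QuasiSober F := hF.isClosedEmbedding_subtypeVal.quasiSober
  obtain ⟨ζ, h1, h2⟩ := Ega4fib.H174.Equidim.exists_maximal_specializes (⟨x, hx⟩ : F)
  refine ⟨ζ.1, ⟨ζ.2, fun y hy hyζ => ?_⟩, (subtype_specializes_iff _ _).mp h2⟩
  exact congrArg Subtype.val (h1 ⟨y, hy⟩ ((subtype_specializes_iff _ _).mpr hyζ))

theorem finite_isMaxIn [QuasiSober X] [T0Space X] [NoetherianSpace X] {F : Set X} (hF : IsClosed F) :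
    {ξ : X | IsMaxIn F ξ}.Finite := by
  obtain ⟨S, hS, hSc, hSi, hSU⟩ := NoetherianSpace.exists_finite_set_isClosed_irreducible hF
  refine Set.Finite.of_finite_image (f := fun t => closure {t}) (hS.subset ?_) ?_
  · rintro _ ⟨ξ, hξ, rfl⟩
    have h1 := hξ.1
    rw [hSU] at h1
    obtain ⟨T, hT, hξT⟩ := h1
    obtain ⟨g, hg⟩ := QuasiSober.sober (hSi T hT) (hSc T hT)
    have hgF : g ∈ F := by rw [hSU]; exact ⟨T, hT, hg.mem⟩
    have h2 := hξ.2 g hgF (hg.specializes hξT)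
    change closure {ξ} ∈ S
    rw [← h2, hg.def]
    exact hT
  · intro t _ t' _ htt'
    exact (inseparable_iff_closure_eq.mpr htt').eq

end maximal

section main

variable {k : Type u} [Field k] [IsAlgClosed k] {X Y P : Scheme.{u}}
  {sX : X ⟶ Spec (.of k)} {sY : Y ⟶ Spec (.of k)} {p : P ⟶ X} {q : P ⟶ Y}

/-- The main argument. -/
theorem mem_of_mem [LocallyOfFiniteType sX] [IsNoetherian X] (H : IsPullback p q sX sY) (d : ℕ)
    (A : Set P) (hA : IsClosed A) (B : Set Y) (hBc : _root_.IsPreconnected B)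
    (F : Set X) (hF : IsClosed F) (hFA : F = p '' (A ∩ q ⁻¹' B))
    (hFd : ∀ x ∈ F, rtd sX x ≤ d)
    (hAd : ∀ z ∈ A, ∃ z₀ ∈ A, z₀ ⤳ z ∧ q z₀ = q z ∧ (d : Cardinal.{u}) ≤ rtd q z₀)
    (hAo : ∀ U : P.Opens, IsOpen (q '' (A ∩ (U : Set P)))) (z : P) (hz : p z ∈ F) (hzB : q z ∈ B) :
    z ∈ A := by
  have hAF : ∀ w ∈ A, q w ∈ B → p w ∈ F := fun w hw hwB => by
    rw [hFA]; exact ⟨w, ⟨hw, hwB⟩, rfl⟩
  obtain ⟨ξ, hξ, hξz⟩ := exists_isMaxIn hF hz
  have hcl : ∀ {ξ' x : X}, ξ' ∈ F → ξ' ⤳ x → x ∈ F := fun hξ' h =>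
    hF.closure_subset_iff.mpr (Set.singleton_subset_iff.mpr hξ') (specializes_iff_mem_closure.mp h)
  -- the set of `b` with `(closure {ξ})_b ⊆ A`
  let T : Set Y := {b | b ∈ B ∧ ∀ z', q z' = b → ξ ⤳ p z' → z' ∈ A}
  -- key claim
  have key : ∀ z₀ ∈ A, ∀ ξ' : X, ξ' ∈ F → ξ' ⤳ p z₀ → (d : Cardinal.{u}) ≤ rtd q z₀ →
      ∀ z', q z' = q z₀ → ξ' ⤳ p z' → z' ∈ A := by
    intro z₀ hz₀ ξ' hξ' hsp hd z' hz' hsp'
    have h1 := specializes_of_le_rtd H ξ' d (fun x hx => hFd x (hcl hξ' hx)) z₀ z' hsp hsp' hz'.symm hd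
    exact hA.closure_subset_iff.mpr (Set.singleton_subset_iff.mpr hz₀) (specializes_iff_mem_closure.mp h1)
  let U : X.Opens := ⟨(⋃ ξ' ∈ {ξ' : X | IsMaxIn F ξ' ∧ ξ' ≠ ξ}, closure {ξ'})ᶜ, by
    rw [isOpen_compl_iff]
    exact ((finite_isMaxIn hF).subset fun ξ' h => h.1).isClosed_biUnion fun _ _ => isClosed_closure⟩
  have hU : ∀ ξ' : X, IsMaxIn F ξ' → ∀ x ∈ U, ξ' ⤳ x → ξ' = ξ := by
    intro ξ' hξ' x hx hsp
    by_contra hne
    apply hx
    simp only [Set.mem_iUnion]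
    exact ⟨ξ', ⟨hξ', hne⟩, specializes_iff_mem_closure.mp hsp⟩
  have hξU : ξ ∈ U := by
    intro h
    simp only [Set.mem_iUnion] at h
    obtain ⟨ξ', ⟨h1, h2⟩, h3⟩ := h
    exact h2 (hξ.2 ξ' h1.1 (specializes_iff_mem_closure.mpr h3))
  have hT1 : T = B ∩ (q '' (A ∩ ((p ⁻¹ᵁ U : P.Opens) : Set P))) := by
    ext b
    constructor
    · rintro ⟨hb, h⟩
      refine ⟨hb, ?_⟩
      obtain ⟨w, hw1, hw2⟩ : ∃ w : P, p w = ξ ∧ q w = b := by
        obtain ⟨t, ht1, ht2⟩ := Scheme.Pullback.exists_preimage_pullback (f := sX) (g := sY) ξ b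
          (Subsingleton.elim _ _)
        refine ⟨H.isoPullback.inv t, ?_, ?_⟩
        · rw [← Scheme.Hom.comp_apply, H.isoPullback_inv_fst, ht1]
        · rw [← Scheme.Hom.comp_apply, H.isoPullback_inv_snd, ht2]
      refine ⟨w, ⟨h w hw2 (by rw [hw1]), ?_⟩, hw2⟩
      change p w ∈ U
      rw [hw1]; exact hξU
    · rintro ⟨hb, w, ⟨hwA, hwU⟩, rfl⟩
      refine ⟨hb, ?_⟩
      obtain ⟨z₀, hz₀, hsp, hqz, hd⟩ := hAd w hwA
      have h1 : p z₀ ∈ U := (hsp.map p.continuous).mem_open U.2 hwU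
      have h2 : p z₀ ∈ F := hAF z₀ hz₀ (by rw [hqz]; exact hb)
      obtain ⟨ξ', hξ', hsp'⟩ := exists_isMaxIn hF h2
      obtain rfl := hU ξ' hξ' _ h1 hsp'
      intro z' hz' hspz'
      exact key z₀ hz₀ ξ' hξ'.1 hsp' hd z' (hz'.trans hqz.symm) hspz'
  have hT2 : T = B ∩ (q '' (p ⁻¹' (closure {ξ}) ∩ ((⟨Aᶜ, hA.isOpen_compl⟩ : P.Opens) : Set P)))ᶜ := by
    ext b
    constructor
    · rintro ⟨hb, h⟩
      refine ⟨hb, ?_⟩
      rintro ⟨w, ⟨hw1, hw2⟩, rfl⟩
      exact hw2 (h w rfl (specializes_iff_mem_closure.mpr hw1))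
    · rintro ⟨hb, h⟩
      refine ⟨hb, fun z' hz' hsp => ?_⟩
      by_contra hcon
      exact h ⟨z', ⟨specializes_iff_mem_closure.mp hsp, hcon⟩, hz'⟩
  have hTne : T.Nonempty := by
    have h1 := hξ.1
    rw [hFA] at h1
    obtain ⟨w, ⟨hwA, hwB⟩, hw⟩ := h1
    obtain ⟨z₀, hz₀, hsp, hqz, hd⟩ := hAd w hwA
    have h2 : p z₀ ⤳ ξ := by rw [← hw]; exact hsp.map p.continuous
    have hqB : q z₀ ∈ B := by rw [hqz]; exact hwB
    have h3 : p z₀ = ξ := hξ.2 _ (hAF z₀ hz₀ hqB) h2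
    exact ⟨q z₀, hqB, fun z' hz' hsp' => key z₀ hz₀ ξ hξ.1 (by rw [h3]) hd z' hz' hsp'⟩
  have hBT : B ⊆ T := by
    by_contra hcon
    obtain ⟨b, hb, hbT⟩ := Set.not_subset.mp hcon
    have hO1 : IsOpen (q '' (A ∩ ((p ⁻¹ᵁ U : P.Opens) : Set P))) := hAo _
    have hO2 := isOpen_image H ξ (⟨Aᶜ, hA.isOpen_compl⟩ : P.Opens)
    have hcov : B ⊆ q '' (A ∩ ((p ⁻¹ᵁ U : P.Opens) : Set P)) ∪
        q '' (p ⁻¹' (closure {ξ}) ∩ ((⟨Aᶜ, hA.isOpen_compl⟩ : P.Opens) : Set P)) := by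
      intro c hc
      by_cases hcT : c ∈ T
      · rw [hT1] at hcT; exact Or.inl hcT.2
      · right
        by_contra hcon'
        exact hcT (by rw [hT2]; exact ⟨hc, hcon'⟩)
    obtain ⟨c, hcB, hc1, hc2⟩ := hBc _ _ hO1 hO2 hcov
      (by obtain ⟨t, ht⟩ := hTne
          exact ⟨t, ht.1, by rw [hT1] at ht; exact ht.2⟩)
      (by refine ⟨b, hb, ?_⟩
          by_contra hcon'
          exact hbT (by rw [hT2]; exact ⟨hb, hcon'⟩))
    have hc : c ∈ T := by rw [hT1]; exact ⟨hcB, hc1⟩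
    rw [hT2] at hc
    exact hc.2 hc2
  exact (hBT hzB).2 z rfl hξz

end main

end K110.Cyc
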